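import Mathlib
import Cfsg.Prelude.Def_OddOrderLocal
import Cfsg.Statements.S1350
import Cfsg.Statements.S1375
import Cfsg.Statements.S1378
import Cfsg.Statements.S1405
import Cfsg.Statements.S1408
import Cfsg.Statements.S1409
import Cfsg.Statements.S1414
import Cfsg.Statements.S1417
import Cfsg.Statements.S1418
import Cfsg.Statements.S1420
import Cfsg.Statements.S1423
import Cfsg.Statements.S1424
import Cfsg.Statements.S1425
import Cfsg.Statements.S1429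
import Cfsg.Statements.S1430
import Cfsg.Statements.S1431
import Cfsg.Agent.S0027
import Cfsg.Agent.S4602
import Cfsg.Agent.Lib.Helper44.BG.S1375Core
import Cfsg.Agent.Lib.Helper68.BG.FrobAct
import Cfsg.Agent.Lib.Helper68.BG.S1428MB
import Cfsg.Agent.Lib.Helper13.BG.Tools
import Cfsg.Agent.Lib.Helper74.BG.Tools
import Cfsg.Agent.Lib.Helper67.BG.HallUtil
import Cfsg.Agent.Lib.Helper67.BG.Basics
import Cfsg.Agent.Lib.Helper85.BG.Conj
import Cfsg.Agent.Lib.Helper46.BG.S1414Core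
import Cfsg.Agent.Lib.Helper35.BG.Basic
import Cfsg.Agent.Lib.Helper35.BG.Hall

/-!
# S1436, part (a)  (Bender–Glauberman 14.4(d) and its corollary), helper77

Setting: `M` maximal, `x ∈ M_σ`, `x ≠ 1`, `C_G(x) ⊄ M`, `N` a maximal subgroup over `C_G(x)`.
If some prime of `σ(N)` divides `|M|` then `κ(M) = ∅` and `τ₂(M) = ∅`.

The proof (paper proof: note 2219, topic S1436) goes through the reduced configuration `Cfg`:
`y ∈ M_σ` of prime order `r`, `N` over `N_G(⟨y⟩)`, `N ≠ M`.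
-/

set_option autoImplicit false
set_option linter.style.haveILetI false

namespace Cfsg.Agent.Lib.Helper77.BG

open Cfsg Cfsg.Agent.Lib.Helper46 Cfsg.Agent.Lib.Helper35.BG
open scoped commutatorElement

section General

variable {G : Type*} [Group G]

theorem commute_of_comm_eq_one36 {a b : G} (h : a * b * a⁻¹ * b⁻¹ = 1) : a * b = b * a := by
  calc a * b = (a * b * a⁻¹ * b⁻¹) * (b * a) := by group
    _ = b * a := by rw [h, one_mul]

theorem le_normalizer_of_forall_conj_mem36 {K Q : Subgroup G}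
    (h : ∀ k ∈ K, ∀ x ∈ Q, k * x * k⁻¹ ∈ Q) : K ≤ Subgroup.normalizer (Q : Set G) := by
  intro k hk
  rw [Subgroup.mem_normalizer_iff]
  intro x
  refine ⟨h k hk x, fun hx => ?_⟩
  have := h k⁻¹ (K.inv_mem hk) _ hx
  simpa [mul_assoc] using this

theorem closure_conj_mem36 {s : Set G} {k : G} (hs : ∀ x ∈ s, k * x * k⁻¹ ∈ s) :
    ∀ x ∈ Subgroup.closure s, k * x * k⁻¹ ∈ Subgroup.closure s := by
  intro x hx
  refine Subgroup.closure_induction (p := fun x _ => k * x * k⁻¹ ∈ Subgroup.closure s)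
    ?_ ?_ ?_ ?_ hx
  · intro x hx
    exact Subgroup.subset_closure (hs x hx)
  · simp
  · intro x y _ _ hx hy
    have e : k * (x * y) * k⁻¹ = (k * x * k⁻¹) * (k * y * k⁻¹) := by group
    rw [e]; exact Subgroup.mul_mem _ hx hy
  · intro x _ hx
    have e : k * x⁻¹ * k⁻¹ = (k * x * k⁻¹)⁻¹ := by group
    rw [e]; exact Subgroup.inv_mem _ hx

theorem centralizer_singleton_le_centralizer_zpowers36 (y : G) :
    Subgroup.centralizer ({y} : Set G) ≤
      Subgroup.centralizer ((Subgroup.zpowers y : Subgroup G) : Set G) := by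
  intro c hc
  rw [Subgroup.mem_centralizer_iff] at hc ⊢
  have hcx : Commute y c := hc y rfl
  rintro z ⟨n, rfl⟩
  exact (hcx.zpow_left n).eq

theorem comm_mem_of_normal36 {H : Subgroup G} (W : Subgroup H) [hW : W.Normal] {u v : G}
    (huH : u ∈ H) (hvH : v ∈ H) (huW : (⟨u, huH⟩ : H) ∈ W) :
    ∃ hm : u * v * u⁻¹ * v⁻¹ ∈ H, (⟨u * v * u⁻¹ * v⁻¹, hm⟩ : H) ∈ W := by
  have h1 : (⟨v, hvH⟩ : H) * (⟨u, huH⟩ : H)⁻¹ * (⟨v, hvH⟩ : H)⁻¹ ∈ W :=
    hW.conj_mem _ (W.inv_mem huW) _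
  have h2 := W.mul_mem huW h1
  refine ⟨H.mul_mem (H.mul_mem (H.mul_mem huH hvH) (H.inv_mem huH)) (H.inv_mem hvH), ?_⟩
  have e : (⟨u, huH⟩ : H) * ((⟨v, hvH⟩ : H) * (⟨u, huH⟩ : H)⁻¹ * (⟨v, hvH⟩ : H)⁻¹) =
      ⟨u * v * u⁻¹ * v⁻¹,
        H.mul_mem (H.mul_mem (H.mul_mem huH hvH) (H.inv_mem huH)) (H.inv_mem hvH)⟩ := by
    apply Subtype.ext
    simp [mul_assoc]
  rwa [e] at h2

theorem zpowers_isPGroup_of_orderOf36 {p : ℕ} [Fact p.Prime] {u : G} (hu : orderOf u = p) :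
    IsPGroup p (Subgroup.zpowers u) := by
  apply IsPGroup.of_card (n := 1)
  rw [Nat.card_zpowers, hu, pow_one]

theorem ne_one_of_orderOf_prime36 {p : ℕ} (hp : p.Prime) {u : G} (hu : orderOf u = p) : u ≠ 1 := by
  intro h
  rw [h, orderOf_one] at hu
  exact hp.one_lt.ne hu

/-- An element of a `p`-subgroup lying in a subgroup of `H` of order prime to `p` is trivial. -/
theorem eq_one_of_mem_pgroup_of_coprime36 {p : ℕ} [Fact p.Prime] {S : Subgroup G}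
    (hS : IsPGroup p S) {H : Subgroup G} (W : Subgroup H) (hW : (Nat.card W).Coprime p) {x : G}
    (hxS : x ∈ S) (hxH : x ∈ H) (hxW : (⟨x, hxH⟩ : H) ∈ W) : x = 1 := by
  obtain ⟨k, hk⟩ := hS ⟨x, hxS⟩
  have hk' : x ^ p ^ k = 1 := by simpa using congrArg Subtype.val hk
  have h1 : orderOf x ∣ p ^ k := orderOf_dvd_of_pow_eq_one hk'
  have h2 : orderOf x ∣ Nat.card W := by
    have := Subgroup.orderOf_dvd_natCard W hxW
    rwa [Subgroup.orderOf_mk] at this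
  have h3 : (orderOf x).Coprime (p ^ k) := (Nat.Coprime.coprime_dvd_left h2 hW).pow_right k
  exact orderOf_eq_one_iff.mp (Nat.Coprime.eq_one_of_dvd h3 h1)

/-- `Ω₁(Z(T))`: the central elements of `T` of order dividing `r`. -/
def omegaCenter36 (r : ℕ) (T : Subgroup G) : Subgroup G where
  carrier := {z | z ∈ T ∧ z ^ r = 1 ∧ ∀ t ∈ T, t * z = z * t}
  one_mem' := ⟨T.one_mem, one_pow r, fun t _ => by rw [mul_one, one_mul]⟩
  mul_mem' := by
    rintro a b ⟨ha, har, hac⟩ ⟨hb, hbr, hbc⟩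
    refine ⟨T.mul_mem ha hb, ?_, ?_⟩
    · have hab : Commute a b := hbc a ha
      rw [hab.mul_pow, har, hbr, one_mul]
    · intro t ht
      rw [← mul_assoc, hac t ht, mul_assoc, hbc t ht, ← mul_assoc]
  inv_mem' := by
    rintro a ⟨ha, har, hac⟩
    refine ⟨T.inv_mem ha, by rw [inv_pow, har, inv_one], fun t ht => ?_⟩
    have h1 := hac t ht
    calc t * a⁻¹ = a⁻¹ * (a * t) * a⁻¹ := by group
      _ = a⁻¹ * (t * a) * a⁻¹ := by rw [h1]
      _ = a⁻¹ * t := by group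

theorem mem_omegaCenter36 {r : ℕ} {T : Subgroup G} {z : G} :
    z ∈ omegaCenter36 r T ↔ z ∈ T ∧ z ^ r = 1 ∧ ∀ t ∈ T, t * z = z * t := Iff.rfl

theorem omegaCenter36_le (r : ℕ) (T : Subgroup G) : omegaCenter36 r T ≤ T := fun _ hz => hz.1

theorem omegaCenter36_normalizer (r : ℕ) (T : Subgroup G) :
    Subgroup.normalizer (T : Set G) ≤ Subgroup.normalizer (omegaCenter36 r T : Set G) := by
  apply le_normalizer_of_forall_conj_mem36
  rintro m hm z ⟨hzT, hzr, hzc⟩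
  refine ⟨(Subgroup.mem_normalizer_iff.mp hm z).mp hzT, ?_, ?_⟩
  · rw [conj_pow, hzr, mul_one, mul_inv_cancel]
  · intro t ht
    have hm' : m⁻¹ ∈ Subgroup.normalizer (T : Set G) := Subgroup.inv_mem _ hm
    have ht' : m⁻¹ * t * m ∈ T := by
      have := (Subgroup.mem_normalizer_iff.mp hm' t).mp ht
      rwa [inv_inv] at this
    have h1 := hzc _ ht'
    calc t * (m * z * m⁻¹) = m * ((m⁻¹ * t * m) * z) * m⁻¹ := by group
      _ = m * (z * (m⁻¹ * t * m)) * m⁻¹ := by rw [h1]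
      _ = m * z * m⁻¹ * t := by group

variable [Finite G]

theorem mem_of_orderOf_coprime_index36 {H : Type*} [Group H] [Finite H] (K : Subgroup H)
    [K.Normal] (x : H) (h : (orderOf x).Coprime K.index) : x ∈ K := by
  have h1 : x ^ K.index ∈ K := Subgroup.pow_index_mem K x
  have h2 : Subgroup.zpowers (x ^ K.index) = Subgroup.zpowers x := by
    apply Subgroup.eq_of_le_of_card_ge
    · rw [Subgroup.zpowers_le]
      exact Subgroup.pow_mem _ (Subgroup.mem_zpowers _) _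
    · rw [Nat.card_zpowers, Nat.card_zpowers, Nat.Coprime.orderOf_pow h]
  have h3 : x ∈ Subgroup.zpowers (x ^ K.index) := by rw [h2]; exact Subgroup.mem_zpowers _
  exact (Subgroup.zpowers_le.2 h1) h3

theorem sylIn_normal_ge36 {p : ℕ} [Fact p.Prime] {E H X : Subgroup G}
    (h : IsSylowIn p E H) (hN : H ≤ Subgroup.normalizer (E : Set G)) (hX : IsPGroup p X)
    (hXH : X ≤ H) : X ≤ E := by
  obtain ⟨R, hR, hXR⟩ := exists_isSylowIn_ge hX hXH
  obtain ⟨g, hg, rfl⟩ := h.exists_conj hR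
  rwa [Cfsg.Agent.Lib.Helper46.map_conj_eq_of_mem_normalizer (hN hg)] at hXR

theorem sylIn_not_dvd_relIndex36 {p : ℕ} [Fact p.Prime] {E H : Subgroup G}
    (h : IsSylowIn p E H) : ¬ p ∣ E.relIndex H := by
  have hp : p.Prime := Fact.out
  have e1 := card_mul_relIndex' h.1
  intro hd
  obtain ⟨m, hm⟩ := hd
  have h2 : p ^ ((Nat.card H).factorization p + 1) ∣ Nat.card H := by
    have e2 : Nat.card H = p ^ (Nat.card H).factorization p * (p * m) := by
      rw [← hm, ← h.2]; exact e1.symm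
    exact ⟨m, by rw [pow_succ, mul_assoc]; exact e2⟩
  exact Nat.pow_succ_factorization_not_dvd Nat.card_pos.ne' hp h2

theorem exists_orderOf_eq_of_dvd_card36 {p : ℕ} (hp : p.Prime) (H : Subgroup G)
    (h : p ∣ Nat.card H) : ∃ u ∈ H, orderOf u = p := by
  haveI : Fact p.Prime := ⟨hp⟩
  obtain ⟨u, hu⟩ := exists_prime_orderOf_dvd_card' p h
  exact ⟨u, u.2, by rw [← hu, Subgroup.orderOf_coe]⟩

/-- A nontrivial `q`-subgroup has a central element of order `q`. -/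
theorem exists_central_orderOf_eq36 {q : ℕ} [Fact q.Prime] {S : Subgroup G} (hS : IsPGroup q S)
    (hS1 : S ≠ ⊥) : ∃ z ∈ S, orderOf z = q ∧ ∀ s ∈ S, z * s = s * z := by
  have hq : q.Prime := Fact.out
  haveI : Nontrivial S := (Subgroup.nontrivial_iff_ne_bot S).mpr hS1
  haveI := hS.center_nontrivial
  obtain ⟨z₀, hz₀⟩ := exists_ne (1 : Subgroup.center S)
  have hw1 : ((z₀ : S) : G) ≠ 1 := by
    intro h
    apply hz₀
    apply Subtype.ext
    apply Subtype.ext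
    simpa using h
  obtain ⟨k, hk⟩ := hS (z₀ : S)
  have hk' : ((z₀ : S) : G) ^ q ^ k = 1 := by simpa using congrArg Subtype.val hk
  have hqo : q ∣ orderOf ((z₀ : S) : G) := by
    obtain ⟨j, -, hj⟩ := (Nat.dvd_prime_pow hq).mp (orderOf_dvd_of_pow_eq_one hk')
    rcases j with _ | j
    · rw [pow_zero] at hj; exact absurd (orderOf_eq_one_iff.mp hj) hw1
    · rw [hj]; exact dvd_pow_self q (Nat.succ_ne_zero j)
  refine ⟨((z₀ : S) : G) ^ (orderOf ((z₀ : S) : G) / q), S.pow_mem (z₀ : S).2 _,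
    orderOf_pow_orderOf_div (orderOf_pos _).ne' hqo, ?_⟩
  intro s hs
  have hc : (⟨s, hs⟩ : S) * (z₀ : S) = (z₀ : S) * ⟨s, hs⟩ :=
    Subgroup.mem_center_iff.mp z₀.2 ⟨s, hs⟩
  have hc' : s * ((z₀ : S) : G) = ((z₀ : S) : G) * s := by simpa using congrArg Subtype.val hc
  exact ((show Commute ((z₀ : S) : G) s from hc'.symm).pow_left _).eq

/-- In a subgroup of `q`-rank one, any two subgroups of order `q` are conjugate. -/
theorem exists_conj_mem_zpowers_of_pRankLE_one36 {q : ℕ} [Fact q.Prime] {N : Subgroup G}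
    (hr : PRankLE q 1 N) {b₀ b₁ : G} (hb₀ : b₀ ∈ N) (hb₁ : b₁ ∈ N) (h₀ : orderOf b₀ = q)
    (h₁ : orderOf b₁ = q) : ∃ n ∈ N, n * b₁ * n⁻¹ ∈ Subgroup.zpowers b₀ := by
  have hq : q.Prime := Fact.out
  obtain ⟨S, hS, hb₀S⟩ := exists_isSylowIn_ge (zpowers_isPGroup_of_orderOf36 h₀)
    ((Subgroup.zpowers_le).mpr hb₀)
  obtain ⟨S', hS', hb₁S'⟩ := exists_isSylowIn_ge (zpowers_isPGroup_of_orderOf36 h₁)
    ((Subgroup.zpowers_le).mpr hb₁)
  obtain ⟨n, hn, rfl⟩ := hS'.exists_conj hS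
  refine ⟨n, hn, ?_⟩
  have haS : n * b₁ * n⁻¹ ∈ S'.map (MulAut.conj n).toMonoidHom :=
    conj_mem_map_conj n (hb₁S' (Subgroup.mem_zpowers b₁))
  have hb₀S' : b₀ ∈ S'.map (MulAut.conj n).toMonoidHom := hb₀S (Subgroup.mem_zpowers b₀)
  have hb₀1 : b₀ ≠ 1 := ne_one_of_orderOf_prime36 hq h₀
  have hSne : S'.map (MulAut.conj n).toMonoidHom ≠ ⊥ := by
    intro e
    rw [e] at hb₀S'
    exact hb₀1 (Subgroup.mem_bot.mp hb₀S')
  obtain ⟨z, hzS, hzq, hzc⟩ := exists_central_orderOf_eq36 (sylIn_isPGroup hS) hSne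
  have hz1 : z ≠ 1 := ne_one_of_orderOf_prime36 hq hzq
  have hzN : z ∈ N := hS.1 hzS
  have haN : n * b₁ * n⁻¹ ∈ N := hS.1 haS
  have hzpow : z ^ q = 1 := by rw [← hzq]; exact pow_orderOf_eq_one z
  have hapow : (n * b₁ * n⁻¹) ^ q = 1 := by
    rw [← h₁, ← Cfsg.Agent.Lib.Helper85.BG.orderOf_conj n b₁]; exact pow_orderOf_eq_one _
  have hbpow : b₀ ^ q = 1 := by rw [← h₀]; exact pow_orderOf_eq_one b₀
  have ha : n * b₁ * n⁻¹ ∈ Subgroup.zpowers z :=
    Cfsg.Agent.Lib.Helper68.BG.mem_zpowers_of_pRankLE_one hr hzN haN hzpow hapow (hzc _ haS) hz1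
  have hb : b₀ ∈ Subgroup.zpowers z :=
    Cfsg.Agent.Lib.Helper68.BG.mem_zpowers_of_pRankLE_one hr hzN hb₀ hzpow hbpow (hzc _ hb₀S') hz1
  have hcomm : b₀ * (n * b₁ * n⁻¹) = n * b₁ * n⁻¹ * b₀ := by
    obtain ⟨i, hi⟩ := Subgroup.mem_zpowers_iff.mp ha
    obtain ⟨j, hj⟩ := Subgroup.mem_zpowers_iff.mp hb
    rw [← hi, ← hj, ← zpow_add, ← zpow_add, add_comm]
  exact Cfsg.Agent.Lib.Helper68.BG.mem_zpowers_of_pRankLE_one hr hb₀ haN hbpow hapow hcomm hb₀1

end General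


section Ctx

variable {G : Type*} [Group G] [Finite G]

/-- The black boxes used below. -/
structure Hy36 (hG : IsMinSimpleOddOrder G) : Prop where
  h1350 : type_of% (@Cfsg.CfsgFrozen.S1350 G _ _ hG)
  h1378 : type_of% (@Cfsg.CfsgFrozen.S1378 G _ _ hG)
  h1405 : type_of% (@Cfsg.CfsgFrozen.S1405 G _ _ hG)
  h1408 : type_of% (@Cfsg.CfsgFrozen.S1408 G _ _ hG)
  h1414 : type_of% (@Cfsg.CfsgFrozen.S1414 G _ _ hG)
  h1417 : type_of% (@Cfsg.CfsgFrozen.S1417 G _ _ hG)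
  h1418 : type_of% (@Cfsg.CfsgFrozen.S1418 G _ _ hG)
  h1423 : type_of% (@Cfsg.CfsgFrozen.S1423 G _ _ hG)
  h1425 : type_of% (@Cfsg.CfsgFrozen.S1425 G _ _ hG)
  h1429 : type_of% (@Cfsg.CfsgFrozen.S1429 G _ _ hG)
  h1430 : type_of% (@Cfsg.CfsgFrozen.S1430 G _ _ hG)
  h1431 : type_of% (@Cfsg.CfsgFrozen.S1431 G _ _ hG)

/-- The reduced configuration: `y ∈ M_σ` of prime order `r` with `C_G(y) ⊄ M`, `N` a maximal
subgroup over `C_G(y)`, together with the structural consequences of Theorem 14.4. -/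
structure Cfg36 (M N : Subgroup G) (y : G) (r : ℕ) : Prop where
  hM : IsCoatom M
  hN : IsCoatom N
  hr : r.Prime
  hy : y ∈ sigmaCore M
  hyr : orderOf y = r
  hCy : ¬ Subgroup.centralizer ({y} : Set G) ≤ M
  hCN : Subgroup.centralizer ({y} : Set G) ≤ N
  hnc : ∀ g : G, N ≠ M.map (MulAut.conj g).toMonoidHom
  hrτ : r ∈ tau2 N
  hnilN : Group.IsNilpotent (sigmaCore N)
  hNσM : sigmaCore N ⊓ M = ⊥
  hD : IsComplIn (M ⊓ N) (sigmaCore N) N

variable {hG : IsMinSimpleOddOrder G} {M N : Subgroup G} {y : G} {r : ℕ}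

theorem Cfg36.hr_sigma (c : Cfg36 M N y r) : r ∈ sigma M :=
  Cfsg.Agent.Lib.Helper67.BG.sigmaCore_isPi M r c.hr
    (by rw [← c.hyr]; exact Subgroup.orderOf_dvd_natCard _ c.hy)

theorem Cfg36.hy1 (c : Cfg36 M N y r) : y ≠ 1 := ne_one_of_orderOf_prime36 c.hr c.hyr

theorem Cfg36.hyM (c : Cfg36 M N y r) : y ∈ M := Cfsg.Agent.Lib.Helper67.BG.sigmaCore_le M c.hy

theorem Cfg36.hyN (c : Cfg36 M N y r) : y ∈ N :=
  c.hCN (by rw [Subgroup.mem_centralizer_iff]; intro w hw; rw [Set.mem_singleton_iff.mp hw])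

theorem Cfg36.sigma_disjoint (h : Hy36 hG) (c : Cfg36 M N y r) {p : ℕ} (hpN : p ∈ sigma N) :
    p ∉ sigma M := fun hpM => by
  obtain ⟨g, hg⟩ := h.h1378.2 M N c.hM c.hN ⟨p, hpM, hpN⟩
  exact c.hnc g hg

/-- `M ∩ N` has no element of order a prime of `σ(N)`. -/
theorem Cfg36.not_mem_inter (h : Hy36 hG) (c : Cfg36 M N y r) {u : G} (huM : u ∈ M) (huN : u ∈ N)
    {p : ℕ} (hpN : p ∈ sigma N) (hu : orderOf u = p) : False := by
  have hp : p.Prime := hpN.1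
  have hle : Subgroup.zpowers u ≤ sigmaCore N :=
    Cfsg.Agent.Lib.Helper74.BG.le_of_isPiHallOf_of_normal (h.h1350 N c.hN).1
      (Cfsg.Agent.Lib.Helper67.BG.sigmaCore_normalizer N) (Subgroup.zpowers_le.mpr huN)
      (fun q hq hqd => by
        rw [Nat.card_zpowers, hu] at hqd
        rw [(Nat.prime_dvd_prime_iff_eq hq hp).mp hqd]; exact hpN)
  have hmem : u ∈ sigmaCore N ⊓ M := Subgroup.mem_inf.mpr ⟨hle (Subgroup.mem_zpowers u), huM⟩
  rw [c.hNσM, Subgroup.mem_bot] at hmem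
  exact ne_one_of_orderOf_prime36 hp hu hmem

/-- No element of `M` of order a prime of `σ(N)` centralizes an `M`-conjugate of `y`. -/
theorem Cfg36.no_commute (h : Hy36 hG) (c : Cfg36 M N y r) {m u : G} (hm : m ∈ M) (hu : u ∈ M)
    {p : ℕ} (hpN : p ∈ sigma N) (hup : orderOf u = p)
    (hcomm : u * (m * y * m⁻¹) = m * y * m⁻¹ * u) : False := by
  have hu' : m⁻¹ * u * m ∈ Subgroup.centralizer ({y} : Set G) := by
    rw [Subgroup.mem_centralizer_iff]
    intro z hz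
    rw [Set.mem_singleton_iff.mp hz]
    calc y * (m⁻¹ * u * m) = m⁻¹ * (m * y * m⁻¹ * u) * m := by group
      _ = m⁻¹ * (u * (m * y * m⁻¹)) * m := by rw [hcomm]
      _ = m⁻¹ * u * m * y := by group
  have ho : orderOf (m⁻¹ * u * m) = p := by
    have := Cfsg.Agent.Lib.Helper85.BG.orderOf_conj m⁻¹ u
    rw [inv_inv] at this
    rw [this, hup]
  exact c.not_mem_inter h (M.mul_mem (M.mul_mem (M.inv_mem hm) hu) hm) (c.hCN hu') hpN ho

theorem Cfg36.not_beta (h : Hy36 hG) (c : Cfg36 M N y r) : r ∉ beta M := fun hβ => by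
  haveI : Fact r.Prime := ⟨c.hr⟩
  obtain ⟨P⟩ : Nonempty (Sylow r ↥(sigmaCore M)) := inferInstance
  have h23 := (h.h1423 M c.hM r c.hr_sigma (Subgroup.zpowers y) (Subgroup.zpowers_le.mpr c.hyM)
    (by rw [Nat.card_zpowers, c.hyr]) P (Or.inl hβ)).1.1
  exact c.hCy ((centralizer_singleton_le_centralizer_zpowers36 y).trans h23)

/-- The elementary abelian subgroup `A` of order `r ^ 2` of `M ∩ N`. -/
theorem Cfg36.exists_A (h : Hy36 hG) (c : Cfg36 M N y r) :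
    ∃ A : Subgroup G, A ≤ M ⊓ N ∧ IsElementaryAbelian r A ∧ Nat.card A = r ^ 2 ∧ y ∈ A ∧
      sigmaCore N ⊓ Subgroup.centralizer (A : Set G) = ⊥ ∧
      M ⊓ N ≤ Subgroup.normalizer (A : Set G) := by
  haveI : Fact r.Prime := ⟨c.hr⟩
  obtain ⟨A, hAE, hAea, hAc⟩ := Cfsg.Agent.Lib.Helper67.BG.exists_ea_sq_le_compl c.hD c.hrτ
  have h18 := h.h1418 N c.hN (M ⊓ N) c.hD r c.hrτ A ⟨hAE, hAea, hAc⟩
  have h17 := h.h1417 N c.hN r c.hrτ A ⟨hAE.trans inf_le_right, hAea, hAc⟩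
  refine ⟨A, hAE, hAea, hAc, ?_, h17.2.2.2.1, h18.1.1⟩
  exact h18.1.2 (Subgroup.zpowers y) (Subgroup.zpowers_le.mpr ⟨c.hyM, c.hyN⟩)
    (by rw [Nat.card_zpowers, c.hyr]) (Subgroup.mem_zpowers y)

/-- **B&G 14.4(d)**: every prime of `σ(N)` dividing `|M|` lies in `β(N)`. -/
theorem Cfg36.mem_beta_of_sigma (h : Hy36 hG) (c : Cfg36 M N y r) {p : ℕ} (hpN : p ∈ sigma N)
    (hpM : p ∣ Nat.card M) : p ∈ beta N := by
  by_contra hpβ
  have hp : p.Prime := hpN.1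
  haveI : Fact p.Prime := ⟨hp⟩
  haveI : Fact r.Prime := ⟨c.hr⟩
  have hpσM : p ∉ sigma M := c.sigma_disjoint h hpN
  have hrp : r ≠ p := fun e => hpσM (e ▸ c.hr_sigma)
  obtain ⟨A, hAE, hAea, hAc, hyA, hCA, -⟩ := c.exists_A h
  -- `r ≤ p`
  have h14N := ((h.h1414 N c.hN).2.2.2.2 p hp hpN.2.1 hpβ).2.2
  have hrle : r ≤ p := by
    apply h14N r c.hr
    by_contra hnd
    haveI := Cfsg.Agent.S4602.pPrimeCore_normal p ↥N
    have hAW : ∀ a ∈ A, ∀ ha : a ∈ N, (⟨a, ha⟩ : N) ∈ pPrimeCore p ↥N := by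
      intro a ha haN
      apply mem_of_orderOf_coprime_index36
      have h1 : orderOf (⟨a, haN⟩ : N) ∣ r := by
        rw [Subgroup.orderOf_mk]
        exact orderOf_dvd_of_pow_eq_one (hAea.2 a ha)
      exact Nat.Coprime.coprime_dvd_left h1 ((Nat.Prime.coprime_iff_not_dvd c.hr).mpr hnd)
    have hpNσ : p ∣ Nat.card (sigmaCore N) := by
      have hH := (h.h1350 N c.hN).1
      have h2 := card_mul_relIndex' hH.1
      have h3 := hpN.2.1
      rw [← h2] at h3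
      exact ((Nat.Prime.dvd_mul hp).mp h3).resolve_right (hH.2.2 p hp hpN)
    obtain ⟨s, hsσ, hs⟩ := exists_orderOf_eq_of_dvd_card36 hp (sigmaCore N) hpNσ
    obtain ⟨S, hS, hsS⟩ := exists_isSylowIn_ge (zpowers_isPGroup_of_orderOf36 hs)
      (Subgroup.zpowers_le.mpr hsσ)
    have hSn : sigmaCore N ≤ Subgroup.normalizer (S : Set G) :=
      Cfsg.Agent.Lib.Helper74.BG.le_normalizer_of_isSylowIn_of_nilpotent c.hnilN hS
    have hsN : s ∈ N := Cfsg.Agent.Lib.Helper67.BG.sigmaCore_le N hsσ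
    have hcomm : ∀ a ∈ A, a * s = s * a := by
      intro a ha
      have haN : a ∈ N := (hAE ha).2
      have h1 : a * s * a⁻¹ ∈ S := by
        have hconjσ : a * s * a⁻¹ ∈ sigmaCore N :=
          (Subgroup.mem_normalizer_iff.mp
            (Cfsg.Agent.Lib.Helper67.BG.sigmaCore_normalizer N haN) s).mp hsσ
        have hpg : IsPGroup p (Subgroup.zpowers (a * s * a⁻¹)) :=
          zpowers_isPGroup_of_orderOf36 (by rw [Cfsg.Agent.Lib.Helper85.BG.orderOf_conj, hs])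
        exact sylIn_normal_ge36 hS hSn hpg (Subgroup.zpowers_le.mpr hconjσ)
          (Subgroup.mem_zpowers _)
      have h2 : a * s * a⁻¹ * s⁻¹ ∈ S :=
        S.mul_mem h1 (S.inv_mem (hsS (Subgroup.mem_zpowers s)))
      obtain ⟨hm, hW⟩ := comm_mem_of_normal36 (pPrimeCore p ↥N) haN hsN (hAW a ha haN)
      exact commute_of_comm_eq_one36 (eq_one_of_mem_pgroup_of_coprime36 (sylIn_isPGroup hS)
        (pPrimeCore p ↥N) (Cfsg.Agent.S4602.pPrimeCore_coprime p ↥N) h2 hm hW)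
    have hmem : s ∈ sigmaCore N ⊓ Subgroup.centralizer (A : Set G) :=
      Subgroup.mem_inf.mpr ⟨hsσ, Subgroup.mem_centralizer_iff.mpr hcomm⟩
    rw [hCA, Subgroup.mem_bot] at hmem
    exact ne_one_of_orderOf_prime36 hp hs hmem
  have hrlt : r < p := lt_of_le_of_ne hrle hrp
  -- `p`-elements of `M` lie in `O_{r'}(M)`
  have hrM : r ∣ Nat.card M := c.hr_sigma.2.1
  have h14M := ((h.h1414 M c.hM).2.2.2.2 r c.hr hrM (c.not_beta h)).2.2
  have hpnd : ¬ p ∣ (pPrimeCore r ↥M).index := fun hd => absurd (h14M p hp hd) (not_le.mpr hrlt)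
  obtain ⟨u, huM, hu⟩ := exists_orderOf_eq_of_dvd_card36 hp M hpM
  haveI := Cfsg.Agent.S4602.pPrimeCore_normal r ↥M
  have huW : (⟨u, huM⟩ : M) ∈ pPrimeCore r ↥M := by
    apply mem_of_orderOf_coprime_index36
    rw [Subgroup.orderOf_mk, hu]
    exact (Nat.Prime.coprime_iff_not_dvd hp).mpr hpnd
  -- a `u`-invariant Sylow `r`-subgroup of `M_σ` containing a conjugate of `y`
  obtain ⟨T, hT, hyT⟩ := exists_isSylowIn_ge (zpowers_isPGroup_of_orderOf36 c.hyr)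
    (Subgroup.zpowers_le.mpr c.hy)
  have hPN : Subgroup.zpowers u ≤ Subgroup.normalizer (sigmaCore M : Set G) :=
    (Subgroup.zpowers_le.mpr huM).trans (Cfsg.Agent.Lib.Helper67.BG.sigmaCore_normalizer M)
  have hnd : ¬ p ∣ Nat.card (Sylow r ↥(sigmaCore M)) := fun hd =>
    hpσM (Cfsg.Agent.Lib.Helper67.BG.sigmaCore_isPi M p hp
      (hd.trans (Cfsg.Agent.Lib.Helper13.BG.card_sylow_dvd_card _)))
  obtain ⟨n, hn, hnorm⟩ := Cfsg.Agent.Lib.Helper13.BG.exists_conj_normalized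
    (zpowers_isPGroup_of_orderOf36 hu) hPN hT hnd
  have hy'T : n * y * n⁻¹ ∈ T.map (MulAut.conj n).toMonoidHom :=
    conj_mem_map_conj n (hyT (Subgroup.mem_zpowers y))
  have hun := hnorm (Subgroup.mem_zpowers u)
  have h1 : u * (n * y * n⁻¹) * u⁻¹ ∈ T.map (MulAut.conj n).toMonoidHom :=
    (Subgroup.mem_normalizer_iff.mp hun _).mp hy'T
  have h2 : u * (n * y * n⁻¹) * u⁻¹ * (n * y * n⁻¹)⁻¹ ∈ T.map (MulAut.conj n).toMonoidHom :=
    Subgroup.mul_mem _ h1 (Subgroup.inv_mem _ hy'T)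
  have hnM : n ∈ M := Cfsg.Agent.Lib.Helper67.BG.sigmaCore_le M hn
  have hy'M : n * y * n⁻¹ ∈ M := M.mul_mem (M.mul_mem hnM c.hyM) (M.inv_mem hnM)
  obtain ⟨hm, hW⟩ := comm_mem_of_normal36 (pPrimeCore r ↥M) huM hy'M huW
  have hTp : IsPGroup r (T.map (MulAut.conj n).toMonoidHom) :=
    isPGroup_map_conj (sylIn_isPGroup hT) n
  have hone := eq_one_of_mem_pgroup_of_coprime36 hTp (pPrimeCore r ↥M)
    (Cfsg.Agent.S4602.pPrimeCore_coprime r ↥M) h2 hm hW
  exact c.no_commute h hnM huM hpN hu (commute_of_comm_eq_one36 hone)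

/-- A prime of `σ(N)` dividing `|M|` is ideal, so `M` has rank one for it. -/
theorem Cfg36.pRankLE_one (h : Hy36 hG) (c : Cfg36 M N y r) {p : ℕ} (hpN : p ∈ sigma N)
    (hpM : p ∣ Nat.card M) : PRankLE p 1 M := by
  by_contra hr1
  have hp : p.Prime := hpN.1
  haveI : Fact p.Prime := ⟨hp⟩
  have hpσM : p ∉ sigma M := c.sigma_disjoint h hpN
  have hr2 : PRankLE p 2 M := by
    by_contra hr2
    exact hpσM (Cfsg.Agent.Lib.Helper46.BG.mem_sigma_of_mem_alpha hG h.h1405 c.hM ⟨hp, hr2⟩)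
  exact (h.h1408 M c.hM p hpσM hr2 hr1).1 (c.mem_beta_of_sigma h hpN hpM).2

/-- For `u` of order `p ∈ σ(N)`, `p ∣ |M|`: a conjugate `N^g` of `N` contains `C_G(u)`, with
`u^g ∈ N_σ`. -/
theorem Cfg36.exists_conj_cent (h : Hy36 hG) (c : Cfg36 M N y r) {p : ℕ} (hpN : p ∈ sigma N)
    (hpM : p ∣ Nat.card M) {u : G} (hu : orderOf u = p) :
    ∃ g : G, g * u * g⁻¹ ∈ sigmaCore N ∧ ∀ v : G, v * u = u * v → g * v * g⁻¹ ∈ N := by
  have hp : p.Prime := hpN.1
  haveI : Fact p.Prime := ⟨hp⟩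
  have hu1 : u ≠ 1 := ne_one_of_orderOf_prime36 hp hu
  have hZ1 : Subgroup.zpowers u ≠ ⊥ := by
    intro e
    have : u ∈ (⊥ : Subgroup G) := e ▸ Subgroup.mem_zpowers u
    exact hu1 (Subgroup.mem_bot.mp this)
  obtain ⟨g, hg⟩ := h.h1425 N c.hN (Subgroup.zpowers u) hZ1 (fun q hq hqd => by
    rw [Nat.card_zpowers, hu] at hqd
    rw [(Nat.prime_dvd_prime_iff_eq hq hp).mp hqd]; exact hpN)
  have hguσ : g * u * g⁻¹ ∈ sigmaCore N := hg (conj_mem_map_conj g (Subgroup.mem_zpowers u))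
  obtain ⟨P⟩ : Nonempty (Sylow p ↥(sigmaCore N)) := inferInstance
  have h23 := (h.h1423 N c.hN p hpN ((Subgroup.zpowers u).map (MulAut.conj g).toMonoidHom)
    (hg.trans (Cfsg.Agent.Lib.Helper67.BG.sigmaCore_le N))
    (by rw [card_map_conj, Nat.card_zpowers, hu]) P
    (Or.inl (c.mem_beta_of_sigma h hpN hpM))).1.1
  refine ⟨g, hguσ, fun v hv => h23 ?_⟩
  rw [Subgroup.mem_centralizer_iff]
  rintro _ ⟨z, hz, rfl⟩
  obtain ⟨k, rfl⟩ := Subgroup.mem_zpowers_iff.mp hz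
  have hc : Commute (u ^ k) v := (show Commute u v from hv.symm).zpow_left k
  simp only [MulEquiv.coe_toMonoidHom, MulAut.conj_apply]
  calc g * u ^ k * g⁻¹ * (g * v * g⁻¹) = g * (u ^ k * v) * g⁻¹ := by group
    _ = g * (v * u ^ k) * g⁻¹ := by rw [hc.eq]
    _ = g * v * g⁻¹ * (g * u ^ k * g⁻¹) := by group

/-- An element of `M` of order `p ∈ σ(N)` acts fixed-point-freely on `M_σ`. -/
theorem Cfg36.cent_eq_bot (h : Hy36 hG) (c : Cfg36 M N y r) {p : ℕ} (hpN : p ∈ sigma N)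
    (hpM : p ∣ Nat.card M) {u : G} (huM : u ∈ M) (hu : orderOf u = p) :
    sigmaCore M ⊓ Subgroup.centralizer ({u} : Set G) = ⊥ := by
  by_contra hne
  have hp : p.Prime := hpN.1
  haveI : Fact p.Prime := ⟨hp⟩
  have hpσM : p ∉ sigma M := c.sigma_disjoint h hpN
  have hu1 : u ≠ 1 := ne_one_of_orderOf_prime36 hp hu
  obtain ⟨z, hz, hz1⟩ : ∃ z ∈ sigmaCore M ⊓ Subgroup.centralizer ({u} : Set G), z ≠ 1 := by
    by_contra hcon
    push_neg at hcon
    exact hne ((Subgroup.eq_bot_iff_forall _).mpr hcon)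
  have hzσ : z ∈ sigmaCore M := (Subgroup.mem_inf.mp hz).1
  have hzu : u * z = z * u := Subgroup.mem_centralizer_iff.mp (Subgroup.mem_inf.mp hz).2 u rfl
  have hκ : p ∈ kappa M := Cfsg.Agent.Lib.Helper67.BG.mem_kappa_of_rank_one hG.1 M p hpσM
    (c.pRankLE_one h hpN hpM) u huM hu z hzσ hz1 hzu
  have hsolvM : Group.IsSolvable M := isSolvable_of_ne_top hG c.hM.1
  obtain ⟨K, hK, huK⟩ := Cfsg.Agent.Lib.Helper67.BG.exists_piHallOf_ge (kappa M) M hsolvM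
    (Subgroup.zpowers u) (Subgroup.zpowers_le.mpr huM) (fun q hq hqd => by
      rw [Nat.card_zpowers, hu] at hqd
      rw [(Nat.prime_dvd_prime_iff_eq hq hp).mp hqd]; exact hκ)
  have huK' : u ∈ K := huK (Subgroup.mem_zpowers u)
  have hK1 : K ≠ ⊥ := fun e => hu1 (by rw [e] at huK'; exact Subgroup.mem_bot.mp huK')
  have h30 := (h.h1430 M c.hM K hK hK1).1 u huK' hu1
  have h31 := (h.h1431 M c.hM K hK hK1).1
  have hzK : z ∈ sigmaCore M ⊓ Subgroup.centralizer (K : Set G) := h30 ▸ hz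
  obtain ⟨g, hguσ, hgc⟩ := c.exists_conj_cent h hpN hpM hu
  have hKsN : (sigmaCore M ⊓ Subgroup.centralizer (K : Set G)).map (MulAut.conj g).toMonoidHom
      ≤ N := by
    rintro _ ⟨v, hv, rfl⟩
    exact hgc v (Subgroup.mem_centralizer_iff.mp (Subgroup.mem_inf.mp hv).2 u huK').symm
  have hcop : (Nat.card ((sigmaCore M ⊓ Subgroup.centralizer (K : Set G)).map
      (MulAut.conj g).toMonoidHom)).Coprime ((M ⊓ N).relIndex N) := by
    rw [card_map_conj, relIndex_left_of_isComplIn c.hD]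
    apply Nat.Coprime.coprime_dvd_left (Subgroup.card_dvd_of_le inf_le_left)
    rw [Nat.coprime_iff_gcd_eq_one]
    by_contra hg1
    obtain ⟨q, hq, hqd⟩ := Nat.exists_prime_and_dvd hg1
    exact c.sigma_disjoint h
      (Cfsg.Agent.Lib.Helper67.BG.sigmaCore_isPi N q hq (hqd.trans (Nat.gcd_dvd_right _ _)))
      (Cfsg.Agent.Lib.Helper67.BG.sigmaCore_isPi M q hq (hqd.trans (Nat.gcd_dvd_left _ _)))
  have hsolvN : Group.IsSolvable N := isSolvable_of_ne_top hG c.hN.1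
  obtain ⟨l, hl, hle⟩ :=
    Cfsg.Agent.Lib.Helper74.BG.exists_mem_conj_le_of_coprime_relIndex hsolvN hKsN hcop
  have hlgM : l * g ∈ M := by
    by_contra hnot
    have hnot' : (l * g)⁻¹ ∉ M := fun hh => hnot (by simpa using M.inv_mem hh)
    have h1 := h31 (l * g)⁻¹ hnot'
    have hzmem : z ∈ (sigmaCore M ⊓ Subgroup.centralizer (K : Set G)) ⊓
        M.map (MulAut.conj (l * g)⁻¹).toMonoidHom := by
      refine Subgroup.mem_inf.mpr ⟨hzK, ?_⟩
      rw [mem_map_conj_iff, inv_inv]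
      have h2 : l * (g * z * g⁻¹) * l⁻¹ ∈ M ⊓ N :=
        hle ⟨g * z * g⁻¹, ⟨z, hzK, rfl⟩, rfl⟩
      have e : l * g * z * (l * g)⁻¹ = l * (g * z * g⁻¹) * l⁻¹ := by group
      rw [e]; exact (Subgroup.mem_inf.mp h2).1
    rw [h1] at hzmem
    exact hz1 (Subgroup.mem_bot.mp hzmem)
  have h5 : l * g * u * (l * g)⁻¹ ∈ sigmaCore N ⊓ M := by
    refine Subgroup.mem_inf.mpr ⟨?_, M.mul_mem (M.mul_mem hlgM huM) (M.inv_mem hlgM)⟩
    have h6 : l * (g * u * g⁻¹) * l⁻¹ ∈ sigmaCore N :=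
      (Subgroup.mem_normalizer_iff.mp
        (Cfsg.Agent.Lib.Helper67.BG.sigmaCore_normalizer N hl) _).mp hguσ
    have e : l * g * u * (l * g)⁻¹ = l * (g * u * g⁻¹) * l⁻¹ := by group
    rw [e]; exact h6
  rw [c.hNσM, Subgroup.mem_bot] at h5
  exact hu1 (conj_eq_one_iff.mp h5)

/-- **First half of S1436(a)**: `κ(M) = ∅`. -/
theorem Cfg36.kappa_eq_empty (h : Hy36 hG) (c : Cfg36 M N y r) {p : ℕ} (hpN : p ∈ sigma N)
    (hpM : p ∣ Nat.card M) : kappa M = ∅ := by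
  rw [Set.eq_empty_iff_forall_notMem]
  intro t ht
  have hp : p.Prime := hpN.1
  haveI : Fact p.Prime := ⟨hp⟩
  haveI : Fact r.Prime := ⟨c.hr⟩
  have hpσM : p ∉ sigma M := c.sigma_disjoint h hpN
  have hrp : r ≠ p := fun e => hpσM (e ▸ c.hr_sigma)
  -- `p ∉ κ(M)`
  have hpκ : p ∉ kappa M := by
    intro hκ
    obtain ⟨P⟩ : Nonempty (Sylow p ↥M) := inferInstance
    obtain ⟨-, x, hxP, hx1, z, hz, hz1, hxz⟩ := hκ.2.2.2 P
    obtain ⟨k, hk⟩ := P.isPGroup' ⟨x, hxP⟩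
    have hk' : (x : G) ^ p ^ k = 1 := by
      have := congrArg (fun t : (P : Subgroup M) => ((t : M) : G)) hk
      simpa using this
    have hx1' : (x : G) ≠ 1 := fun e => hx1 (Subtype.ext e)
    have hpo : p ∣ orderOf (x : G) := by
      obtain ⟨j, -, hj⟩ := (Nat.dvd_prime_pow hp).mp (orderOf_dvd_of_pow_eq_one hk')
      rcases j with _ | j
      · rw [pow_zero] at hj; exact absurd (orderOf_eq_one_iff.mp hj) hx1'
      · rw [hj]; exact dvd_pow_self p (Nat.succ_ne_zero j)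
    have hu : orderOf ((x : G) ^ (orderOf (x : G) / p)) = p :=
      orderOf_pow_orderOf_div (orderOf_pos (x : G)).ne' hpo
    have huM : (x : G) ^ (orderOf (x : G) / p) ∈ M := M.pow_mem x.2 _
    have h0 := c.cent_eq_bot h hpN hpM huM hu
    have hzmem : z ∈ sigmaCore M ⊓
        Subgroup.centralizer ({(x : G) ^ (orderOf (x : G) / p)} : Set G) := by
      refine Subgroup.mem_inf.mpr ⟨hz, ?_⟩
      rw [Subgroup.mem_centralizer_iff]
      intro w hw
      rw [Set.mem_singleton_iff.mp hw]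
      exact ((show Commute (x : G) z from hxz).pow_left _).eq
    rw [h0] at hzmem
    exact hz1 (Subgroup.mem_bot.mp hzmem)
  -- a Hall `κ(M)`-subgroup `K ≠ 1`
  have hsolvM : Group.IsSolvable M := isSolvable_of_ne_top hG c.hM.1
  obtain ⟨K, hK, -⟩ := Cfsg.Agent.Lib.Helper67.BG.exists_piHallOf_ge (kappa M) M hsolvM ⊥ bot_le
    (fun q hq hqd => by
      rw [Subgroup.card_bot] at hqd
      exact absurd (Nat.dvd_one.mp hqd) hq.one_lt.ne')
  have hK1 : K ≠ ⊥ := by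
    intro e
    have h2 := card_mul_relIndex' hK.1
    rw [e, Subgroup.card_bot, one_mul] at h2
    refine hK.2.2 t ht.1 ht ?_
    rw [e, h2]
    exact ht.2.1
  have hP1 : ¬ (∀ q : ℕ, q.Prime → q ∣ Nat.card M → q ∉ sigma M → q ∈ kappa M) :=
    fun hh => hpκ (hh p hp hpM hpσM)
  obtain ⟨U, hUab, hUH, hKU, hUK⟩ := (h.h1430 M c.hM K hK hK1).2.1
  have hUcomm : ∀ a ∈ U, ∀ b ∈ U, a * b = b * a := isMulCommutative_subgroup_iff.mp hUab
  -- the Sylow `p`-subgroup `Q₀` of `U` is a Sylow `p`-subgroup of `M`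
  obtain ⟨Q₀, hQ₀, -⟩ := exists_isSylowIn_ge (p := p) (Q := (⊥ : Subgroup G)) (H := U)
    IsPGroup.of_bot bot_le
  have hQ₀M : IsSylowIn p Q₀ M := by
    apply Cfsg.Agent.Lib.Helper74.BG.isSylowIn_of_not_dvd_relIndex (sylIn_isPGroup hQ₀)
      (hQ₀.1.trans hUH.1)
    rw [← Subgroup.relIndex_mul_relIndex Q₀ U M hQ₀.1 hUH.1]
    intro hd
    rcases (Nat.Prime.dvd_mul hp).mp hd with h1 | h1
    · exact sylIn_not_dvd_relIndex36 hQ₀ h1
    · exact hUH.2.2 p hp ⟨hp, hpκ, hpσM⟩ h1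
  obtain ⟨S, hSQ⟩ := hQ₀M.exists_sylow
  have h29 := h.h1429 M c.hM hP1 p hpM (by
    intro hmem
    rcases hmem with h1 | h1
    · exact hpσM h1
    · exact hpκ h1) S
  rw [hSQ] at h29
  obtain ⟨-, hCQ, hnilM⟩ := h29
  -- `Q = Ω₁(Q₀)`
  have hQ₀U : Q₀ ≤ U := hQ₀.1
  have hUQ₀ : U ≤ Subgroup.normalizer (Q₀ : Set G) := by
    apply le_normalizer_of_forall_conj_mem36
    intro a ha x hx
    have : a * x * a⁻¹ = x := by
      rw [hUcomm a ha x (hQ₀U hx), mul_assoc, mul_inv_cancel, mul_one]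
    rw [this]; exact hx
  have hKQ₀ : ∀ k ∈ K, ∀ x ∈ Q₀, k * x * k⁻¹ ∈ Q₀ := by
    intro k hk x hx
    have hle : Q₀.map (MulAut.conj k).toMonoidHom ≤ U := by
      rintro _ ⟨w, hw, rfl⟩
      exact (Subgroup.mem_normalizer_iff.mp (hKU hk) w).mp (hQ₀U hw)
    exact sylIn_normal_ge36 hQ₀ hUQ₀ (isPGroup_map_conj (sylIn_isPGroup hQ₀) k) hle
      (conj_mem_map_conj k hx)
  have hQle : Subgroup.closure {x : G | x ∈ Q₀ ∧ x ^ p = 1} ≤ Q₀ := by
    rw [Subgroup.closure_le]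
    intro x hx
    exact hx.1
  have hKQ : K ≤ Subgroup.normalizer
      ((Subgroup.closure {x : G | x ∈ Q₀ ∧ x ^ p = 1} : Subgroup G) : Set G) := by
    apply le_normalizer_of_forall_conj_mem36
    intro k hk
    apply closure_conj_mem36
    rintro x ⟨hx, hxp⟩
    exact ⟨hKQ₀ k hk x hx, by rw [conj_pow, hxp, mul_one, mul_inv_cancel]⟩
  -- an element `k₀` of prime order of `K`
  obtain ⟨t', ht', ht'd⟩ := Nat.exists_prime_and_dvd
    (fun e : Nat.card K = 1 => hK1 (Subgroup.card_eq_one.mp e))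
  obtain ⟨k₀, hk₀K, hk₀⟩ := exists_orderOf_eq_of_dvd_card36 ht' K ht'd
  have hk₀1 : k₀ ≠ 1 := ne_one_of_orderOf_prime36 ht' hk₀
  have ht'κ : t' ∈ kappa M := hK.2.1 t' ht' ht'd
  have ht'r : t' ≠ r := fun e => ht'κ.2.2.1 (e ▸ c.hr_sigma)
  have ht'3 : 3 ≤ t' := by
    have h2 : t' ≠ 2 := by
      intro e
      have hodd : Odd (Nat.card K) := odd_card_subgroup hG K
      rw [e] at ht'd
      exact (Nat.not_even_iff_odd.mpr hodd) (even_iff_two_dvd.mpr ht'd)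
    have := ht'.two_le
    omega
  -- `T = O_r(M_σ)` and `Z₀ = Ω₁(Z(T))`
  obtain ⟨T, hT, hyT⟩ := exists_isSylowIn_ge (zpowers_isPGroup_of_orderOf36 c.hyr)
    (Subgroup.zpowers_le.mpr c.hy)
  have hTσ : sigmaCore M ≤ Subgroup.normalizer (T : Set G) :=
    Cfsg.Agent.Lib.Helper74.BG.le_normalizer_of_isSylowIn_of_nilpotent hnilM hT
  have hTM : M ≤ Subgroup.normalizer (T : Set G) := by
    apply le_normalizer_of_forall_conj_mem36
    intro m hm x hx
    have hle : T.map (MulAut.conj m).toMonoidHom ≤ sigmaCore M := by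
      rintro _ ⟨w, hw, rfl⟩
      exact (Subgroup.mem_normalizer_iff.mp
        (Cfsg.Agent.Lib.Helper67.BG.sigmaCore_normalizer M hm) w).mp (hT.1 hw)
    exact sylIn_normal_ge36 hT hTσ (isPGroup_map_conj (sylIn_isPGroup hT) m) hle
      (conj_mem_map_conj m hx)
  have hyT' : y ∈ T := hyT (Subgroup.mem_zpowers y)
  have hT1 : T ≠ ⊥ := fun e => c.hy1 (by rw [e] at hyT'; exact Subgroup.mem_bot.mp hyT')
  have hZM : M ≤ Subgroup.normalizer (omegaCenter36 r T : Set G) :=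
    hTM.trans (omegaCenter36_normalizer r T)
  have hZp : IsPGroup r (omegaCenter36 r T) :=
    (sylIn_isPGroup hT).to_le (omegaCenter36_le r T)
  obtain ⟨z₁, hz₁T, hz₁r, hz₁c⟩ := exists_central_orderOf_eq36 (sylIn_isPGroup hT) hT1
  have hz₁Z : z₁ ∈ omegaCenter36 r T :=
    ⟨hz₁T, by rw [← hz₁r]; exact pow_orderOf_eq_one z₁, fun t ht => (hz₁c t ht).symm⟩
  have hZ1 : omegaCenter36 r T ≠ ⊥ := fun e =>
    ne_one_of_orderOf_prime36 c.hr hz₁r (by rw [e] at hz₁Z; exact Subgroup.mem_bot.mp hz₁Z)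
  -- the fixed point formula
  have hQM : Subgroup.closure {x : G | x ∈ Q₀ ∧ x ^ p = 1} ≤ M := hQle.trans (hQ₀U.trans hUH.1)
  have hQp : IsPGroup p (Subgroup.closure {x : G | x ∈ Q₀ ∧ x ^ p = 1}) :=
    (sylIn_isPGroup hQ₀).to_le hQle
  have hQcop : (Nat.card (Subgroup.closure {x : G | x ∈ Q₀ ∧ x ^ p = 1})).Coprime r := by
    obtain ⟨n, hn⟩ := IsPGroup.iff_card.mp hQp
    rw [hn]
    exact ((Nat.coprime_primes hp c.hr).mpr (Ne.symm hrp)).pow_left n
  have hRK : Subgroup.zpowers k₀ ≤ K := Subgroup.zpowers_le.mpr hk₀K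
  have hCQR : Subgroup.closure {x : G | x ∈ Q₀ ∧ x ^ p = 1} ⊓
      Subgroup.centralizer ((Subgroup.zpowers k₀ : Subgroup G) : Set G) = ⊥ := by
    rw [eq_bot_iff]
    intro w hw
    have hw1 : w ∈ U := hQ₀U (hQle (Subgroup.mem_inf.mp hw).1)
    have hw2 : w ∈ Subgroup.centralizer ({k₀} : Set G) := by
      rw [Subgroup.mem_centralizer_iff]
      intro v hv
      rw [Set.mem_singleton_iff.mp hv]
      exact Subgroup.mem_centralizer_iff.mp (Subgroup.mem_inf.mp hw).2 k₀ (Subgroup.mem_zpowers k₀)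
    have : w ∈ U ⊓ Subgroup.centralizer ({k₀} : Set G) := Subgroup.mem_inf.mpr ⟨hw1, hw2⟩
    rwa [hUK k₀ hk₀K hk₀1] at this
  have hfc := Cfsg.Agent.Lib.Helper68.BG.frob_card (p := r) (r := t') (omegaCenter36 r T)
    (Subgroup.closure {x : G | x ∈ Q₀ ∧ x ^ p = 1}) (Subgroup.zpowers k₀) hZp
    (hQM.trans hZM) ((hRK.trans hK.1).trans hZM) hQcop (by rw [Nat.card_zpowers, hk₀]) ht' ht'r
    (hRK.trans hKQ) hCQR
  have hZσ : omegaCenter36 r T ≤ sigmaCore M := (omegaCenter36_le r T).trans hT.1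
  have e1 : omegaCenter36 r T ⊓ Subgroup.centralizer
      ((Subgroup.closure {x : G | x ∈ Q₀ ∧ x ^ p = 1} : Subgroup G) : Set G) = ⊥ := by
    rw [eq_bot_iff, ← hCQ]
    exact inf_le_inf hZσ le_rfl
  have e2 : omegaCenter36 r T ⊓ (Subgroup.centralizer
      ((Subgroup.closure {x : G | x ∈ Q₀ ∧ x ^ p = 1} : Subgroup G) : Set G) ⊓
      Subgroup.centralizer ((Subgroup.zpowers k₀ : Subgroup G) : Set G)) = ⊥ := by
    rw [eq_bot_iff, ← e1]
    exact inf_le_inf le_rfl inf_le_left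
  rw [e1, e2, Subgroup.card_bot, one_pow, one_mul, mul_one] at hfc
  -- `|Z₀| ≥ r ^ 3`
  have hc1 : Nat.card ↥(omegaCenter36 r T ⊓
      Subgroup.centralizer ((Subgroup.zpowers k₀ : Subgroup G) : Set G)) ≠ 1 := by
    intro e
    rw [e, one_pow] at hfc
    exact hZ1 (Subgroup.card_eq_one.mp hfc)
  have hcr : r ≤ Nat.card ↥(omegaCenter36 r T ⊓
      Subgroup.centralizer ((Subgroup.zpowers k₀ : Subgroup G) : Set G)) := by
    have hpg : IsPGroup r ↥(omegaCenter36 r T ⊓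
        Subgroup.centralizer ((Subgroup.zpowers k₀ : Subgroup G) : Set G)) := hZp.to_le inf_le_left
    obtain ⟨n, hn⟩ := IsPGroup.iff_card.mp hpg
    rw [hn] at hc1 ⊢
    rcases n with _ | n
    · exact absurd (pow_zero r) hc1
    · calc r = r ^ 1 := (pow_one r).symm
        _ ≤ r ^ (n + 1) := Nat.pow_le_pow_right c.hr.pos (by omega)
  have hZ3 : r ^ 3 ≤ Nat.card (omegaCenter36 r T) := by
    rw [hfc]
    calc r ^ 3 ≤ r ^ t' := Nat.pow_le_pow_right c.hr.pos ht'3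
      _ ≤ _ := Nat.pow_le_pow_left hcr t'
  -- but `Z₀ ≤ N` and `N` has `r`-rank two
  have hZN : omegaCenter36 r T ≤ N := by
    intro z hz
    apply c.hCN
    rw [Subgroup.mem_centralizer_iff]
    intro w hw
    rw [Set.mem_singleton_iff.mp hw]
    exact hz.2.2 y hyT'
  have hr2 := c.hrτ.2.2.1
  rw [Cfsg.Agent.Lib.Helper24.pRankLE_subgroup_iff] at hr2
  have hle := hr2 (omegaCenter36 r T) hZN
    (fun a ha b hb => (ha.2.2 b hb.1).symm) (fun a ha => ha.2.1)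
  have hlt : r ^ 2 < r ^ 3 := Nat.pow_lt_pow_right c.hr.one_lt (by omega)
  omega

theorem exists_ne_one_of_ne_bot36 {S : Subgroup G} (hS : S ≠ ⊥) : ∃ b ∈ S, b ≠ 1 := by
  by_contra hcon
  push Not at hcon
  exact hS ((Subgroup.eq_bot_iff_forall _).mpr hcon)

theorem le_normalizer_bot36 (K : Subgroup G) :
    K ≤ Subgroup.normalizer (((⊥ : Subgroup G) : Subgroup G) : Set G) := by
  apply le_normalizer_of_forall_conj_mem36
  intro k _ x hx
  rw [Subgroup.mem_bot] at hx ⊢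
  rw [hx, mul_one, mul_inv_cancel]

/-- **Second half of S1436(a)**: `τ₂(M) = ∅`. -/
theorem Cfg36.tau2_eq_empty (h : Hy36 hG) (c : Cfg36 M N y r) {p : ℕ} (hpN : p ∈ sigma N)
    (hpM : p ∣ Nat.card M) : tau2 M = ∅ := by
  rw [Set.eq_empty_iff_forall_notMem]
  intro q hq
  have hp : p.Prime := hpN.1
  haveI : Fact p.Prime := ⟨hp⟩
  haveI : Fact r.Prime := ⟨c.hr⟩
  have hqp : q.Prime := hq.1
  haveI : Fact q.Prime := ⟨hqp⟩
  have hpσM : p ∉ sigma M := c.sigma_disjoint h hpN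
  have hrp : r ≠ p := fun e => hpσM (e ▸ c.hr_sigma)
  have hqσM : q ∉ sigma M := hq.2.1
  have hrq : r ≠ q := fun e => hqσM (e ▸ c.hr_sigma)
  have hp1 : PRankLE p 1 M := c.pRankLE_one h hpN hpM
  have hqp' : q ≠ p := fun e => hq.2.2.2 (e ▸ hp1)
  have hsolvM : Group.IsSolvable M := isSolvable_of_ne_top hG c.hM.1
  -- the complement `E` and `B`
  obtain ⟨E, hE⟩ := Cfsg.Agent.Lib.Helper67.BG.exists_compl_sigmaCore M (h.h1350 M c.hM).1
  obtain ⟨B, hBE, hBea, hBc⟩ := Cfsg.Agent.Lib.Helper67.BG.exists_ea_sq_le_compl hE hq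
  have hBM : B ≤ M := hBE.trans hE.1
  have h17 := h.h1417 M c.hM q hq B ⟨hBM, hBea, hBc⟩
  have h18 := h.h1418 M c.hM E hE q hq B ⟨hBE, hBea, hBc⟩
  have hBcomm := Cfsg.Agent.Lib.Helper20.BG.ea_comm hBea
  have hqM : q ∣ Nat.card M := by
    have h1 : Nat.card B ∣ Nat.card M := Subgroup.card_dvd_of_le hBM
    rw [hBc] at h1
    exact (dvd_pow_self q (by norm_num)).trans h1
  have hqσN : q ∉ sigma N := fun hqN => hq.2.2.2 (c.pRankLE_one h hqN hqM)
  -- an element `u ∈ E` of order `p`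
  obtain ⟨u₀, hu₀M, hu₀⟩ := exists_orderOf_eq_of_dvd_card36 hp M hpM
  have hcop₀ : (Nat.card (Subgroup.zpowers u₀)).Coprime (E.relIndex M) := by
    rw [Nat.card_zpowers, hu₀, relIndex_left_of_isComplIn hE, Nat.Prime.coprime_iff_not_dvd hp]
    exact fun hd => hpσM (Cfsg.Agent.Lib.Helper67.BG.sigmaCore_isPi M p hp hd)
  obtain ⟨m, hm, hmle⟩ := Cfsg.Agent.Lib.Helper74.BG.exists_mem_conj_le_of_coprime_relIndex
    hsolvM (Subgroup.zpowers_le.mpr hu₀M) hcop₀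
  obtain ⟨u, huE, hu⟩ : ∃ u ∈ E, orderOf u = p :=
    ⟨m * u₀ * m⁻¹, hmle (conj_mem_map_conj m (Subgroup.mem_zpowers u₀)),
      by rw [Cfsg.Agent.Lib.Helper85.BG.orderOf_conj, hu₀]⟩
  have huM : u ∈ M := hE.1 huE
  have hu1 : u ≠ 1 := ne_one_of_orderOf_prime36 hp hu
  have hC0 := c.cent_eq_bot h hpN hpM huM hu
  have hRB : Subgroup.zpowers u ≤ Subgroup.normalizer (B : Set G) :=
    (Subgroup.zpowers_le.mpr huE).trans h18.1.1
  have hRcard : Nat.card (Subgroup.zpowers u) = p := by rw [Nat.card_zpowers, hu]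
  -- `T = O_r(M_σ)`
  obtain ⟨T, hT, hyT⟩ := exists_isSylowIn_ge (zpowers_isPGroup_of_orderOf36 c.hyr)
    (Subgroup.zpowers_le.mpr c.hy)
  have hTσ : sigmaCore M ≤ Subgroup.normalizer (T : Set G) :=
    Cfsg.Agent.Lib.Helper74.BG.le_normalizer_of_isSylowIn_of_nilpotent h17.1 hT
  have hTM : M ≤ Subgroup.normalizer (T : Set G) := by
    apply le_normalizer_of_forall_conj_mem36
    intro m hm x hx
    have hle : T.map (MulAut.conj m).toMonoidHom ≤ sigmaCore M := by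
      rintro _ ⟨w, hw, rfl⟩
      exact (Subgroup.mem_normalizer_iff.mp
        (Cfsg.Agent.Lib.Helper67.BG.sigmaCore_normalizer M hm) w).mp (hT.1 hw)
    exact sylIn_normal_ge36 hT hTσ (isPGroup_map_conj (sylIn_isPGroup hT) m) hle
      (conj_mem_map_conj m hx)
  have hyT' : y ∈ T := hyT (Subgroup.mem_zpowers y)
  -- the key: a `⟨u⟩`-invariant subgroup of `B` on which `u` acts freely centralizes `T`
  have key : ∀ Q : Subgroup G, Q ≤ B →
      Subgroup.zpowers u ≤ Subgroup.normalizer (Q : Set G) →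
      Q ⊓ Subgroup.centralizer ((Subgroup.zpowers u : Subgroup G) : Set G) = ⊥ →
      Q ≤ Subgroup.centralizer (T : Set G) := by
    intro Q hQB hRQ hQR
    have hQcop : (Nat.card Q).Coprime r := by
      have hd : Nat.card Q ∣ q ^ 2 := hBc ▸ Subgroup.card_dvd_of_le hQB
      exact Nat.Coprime.coprime_dvd_left hd
        (((Nat.coprime_primes hqp c.hr).mpr (Ne.symm hrq)).pow_left 2)
    apply Cfsg.Agent.Lib.Helper68.BG.frob_F0' (p := r) (r := p) T Q (Subgroup.zpowers u)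
      (sylIn_isPGroup hT) ((hQB.trans hBM).trans hTM) ((Subgroup.zpowers_le.mpr huM).trans hTM)
      hQcop hRcard hp (Ne.symm hrp) hRQ hQR
    intro w hw
    have hw' : w ∈ sigmaCore M ⊓ Subgroup.centralizer ({u} : Set G) := by
      refine Subgroup.mem_inf.mpr ⟨hT.1 (Subgroup.mem_inf.mp hw).1, ?_⟩
      rw [Subgroup.mem_centralizer_iff]
      intro v hv
      rw [Set.mem_singleton_iff.mp hv]
      exact Subgroup.mem_centralizer_iff.mp (Subgroup.mem_inf.mp hw).2 u (Subgroup.mem_zpowers u)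
    rw [hC0, Subgroup.mem_bot] at hw'
    rw [hw']
    exact Subgroup.one_mem _
  obtain ⟨g, hguσ, hgc⟩ := c.exists_conj_cent h hpN hpM hu
  have hα : ¬ PRankLE q 2 N → False := fun hr2 =>
    hqσN (Cfsg.Agent.Lib.Helper46.BG.mem_sigma_of_mem_alpha hG h.h1405 c.hN ⟨hqp, hr2⟩)
  -- Case (i): `u` centralizes `B`
  by_cases hcase1 : B ≤ Subgroup.centralizer ((Subgroup.zpowers u : Subgroup G) : Set G)
  · have hBgN : B.map (MulAut.conj g).toMonoidHom ≤ N := by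
      rintro _ ⟨b, hb, rfl⟩
      exact hgc b (Subgroup.mem_centralizer_iff.mp (hcase1 hb) u (Subgroup.mem_zpowers u)).symm
    have hBgea : IsElementaryAbelian q (B.map (MulAut.conj g).toMonoidHom) :=
      Cfsg.Agent.Lib.Helper67.BG.isElementaryAbelian_map_conj hBea g
    have hBgc : Nat.card (B.map (MulAut.conj g).toMonoidHom) = q ^ 2 := by
      rw [card_map_conj, hBc]
    have hqτN : q ∈ tau2 N := by
      refine ⟨hqp, hqσN, ?_, ?_⟩
      · by_contra hr2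
        exact hα hr2
      · intro hr1
        rw [Cfsg.Agent.Lib.Helper24.pRankLE_subgroup_iff] at hr1
        have h1 := hr1 _ hBgN (Cfsg.Agent.Lib.Helper20.BG.ea_comm hBgea) hBgea.2
        rw [hBgc, pow_one] at h1
        have h2 : q ^ 1 < q ^ 2 := Nat.pow_lt_pow_right hqp.one_lt (by omega)
        rw [pow_one] at h2
        omega
    have h17N := h.h1417 N c.hN q hqτN _ ⟨hBgN, hBgea, hBgc⟩
    have hMg : IsCoatom (M.map (MulAut.conj g).toMonoidHom) :=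
      Cfsg.Agent.Lib.Helper85.BG.isCoatom_map_conj c.hM g
    have h5 := h17N.2.2.2.2.1 _ hMg (fun e => c.hnc g e.symm) (Subgroup.map_mono hBM)
    have hmem : g * u * g⁻¹ ∈ sigmaCore N ⊓ M.map (MulAut.conj g).toMonoidHom :=
      Subgroup.mem_inf.mpr ⟨hguσ, conj_mem_map_conj g huM⟩
    rw [h5, Subgroup.mem_bot] at hmem
    exact hu1 (conj_eq_one_iff.mp hmem)
  -- Case (ii): `u` acts freely on `B`
  by_cases hcase2 : B ⊓ Subgroup.centralizer ((Subgroup.zpowers u : Subgroup G) : Set G) = ⊥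
  · have hBT := key B le_rfl hRB hcase2
    have hmem : y ∈ sigmaCore M ⊓ Subgroup.centralizer (B : Set G) := by
      refine Subgroup.mem_inf.mpr ⟨c.hy, ?_⟩
      rw [Subgroup.mem_centralizer_iff]
      intro b hb
      exact (Subgroup.mem_centralizer_iff.mp (hBT hb) y hyT').symm
    rw [h17.2.2.2.1, Subgroup.mem_bot] at hmem
    exact c.hy1 hmem
  -- Case (iii): `B = C_B(u) × [B, u]` with both factors of order `q`
  have hB₁B : ⁅B, Subgroup.zpowers u⁆ ≤ B := by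
    rw [Subgroup.commutator_le]
    intro b hb v hv
    have h1 : v * b⁻¹ * v⁻¹ ∈ B :=
      (Subgroup.mem_normalizer_iff.mp (hRB hv) _).mp (B.inv_mem hb)
    have e : ⁅b, v⁆ = b * (v * b⁻¹ * v⁻¹) := by rw [commutatorElement_def]; group
    rw [e]; exact B.mul_mem hb h1
  have hRB₁ : Subgroup.zpowers u ≤
      Subgroup.normalizer ((⁅B, Subgroup.zpowers u⁆ : Subgroup G) : Set G) := by
    apply le_normalizer_of_forall_conj_mem36
    intro v hv x hx
    have e : (⁅B, Subgroup.zpowers u⁆).map (MulAut.conj v).toMonoidHom =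
        ⁅B, Subgroup.zpowers u⁆ := by
      rw [Subgroup.map_commutator,
        Cfsg.Agent.Lib.Helper46.map_conj_eq_of_mem_normalizer (hRB hv),
        Cfsg.Agent.Lib.Helper46.map_conj_eq_of_mem_normalizer (Subgroup.le_normalizer hv)]
    rw [← e]
    exact conj_mem_map_conj v hx
  have hB₁1 : ⁅B, Subgroup.zpowers u⁆ ≠ ⊥ := fun e =>
    hcase1 (Subgroup.commutator_eq_bot_iff_le_centralizer.mp e)
  have hcopRB : (Nat.card (Subgroup.zpowers u)).Coprime (Nat.card B) := by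
    rw [hRcard, hBc]
    exact ((Nat.coprime_primes hp hqp).mpr (Ne.symm hqp')).pow_right 2
  have hsolvB : Group.IsSolvable B :=
    isSolvable_of_comm (fun a b => Subtype.ext (hBcomm a a.2 b b.2))
  have hgen : ⁅⁅B, Subgroup.zpowers u⁆, Subgroup.zpowers u⁆ = ⁅B, Subgroup.zpowers u⁆ :=
    Cfsg.Agent.S0027.result (Subgroup.zpowers u) B hRB hcopRB (Or.inr hsolvB)
  have hB₁R : ⁅B, Subgroup.zpowers u⁆ ⊓
      Subgroup.centralizer ((Subgroup.zpowers u : Subgroup G) : Set G) = ⊥ := by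
    rw [eq_bot_iff]
    apply Cfsg.Agent.Lib.Helper68.BG.inf_centralizer_le_of_commutator_eq
      (⁅B, Subgroup.zpowers u⁆) (Subgroup.zpowers u) ⊥ hRB₁ (le_normalizer_bot36 _)
      (le_normalizer_bot36 _) ?_ ?_ hgen
    · rw [Subgroup.commutator_le]
      intro a ha b hb
      rw [Subgroup.mem_bot, commutatorElement_eq_one_iff_commute]
      exact hBcomm a (hB₁B ha) b (hB₁B hb)
    · exact Nat.Coprime.coprime_dvd_right (Subgroup.card_dvd_of_le hB₁B) hcopRB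
  have hB₁T := key _ hB₁B hRB₁ hB₁R
  obtain ⟨b₁, hb₁, hb₁1⟩ := exists_ne_one_of_ne_bot36 hB₁1
  have hb₁B : b₁ ∈ B := hB₁B hb₁
  have hb₁q : orderOf b₁ = q := orderOf_eq_prime (hBea.2 b₁ hb₁B) hb₁1
  have hb₁y : y * b₁ = b₁ * y := Subgroup.mem_centralizer_iff.mp (hB₁T hb₁) y hyT'
  have hb₁N : b₁ ∈ N := by
    apply c.hCN
    rw [Subgroup.mem_centralizer_iff]
    intro w hw
    rw [Set.mem_singleton_iff.mp hw]
    exact hb₁y
  -- `b₁` acts freely on `N_σ`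
  have hXne : sigmaCore M ⊓
      Subgroup.centralizer ((Subgroup.zpowers b₁ : Subgroup G) : Set G) ≠ ⊥ := by
    intro e
    have hmem : y ∈ sigmaCore M ⊓
        Subgroup.centralizer ((Subgroup.zpowers b₁ : Subgroup G) : Set G) := by
      refine Subgroup.mem_inf.mpr ⟨c.hy, ?_⟩
      apply centralizer_singleton_le_centralizer_zpowers36
      rw [Subgroup.mem_centralizer_iff]
      intro w hw
      rw [Set.mem_singleton_iff.mp hw]
      exact hb₁y.symm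
    rw [e, Subgroup.mem_bot] at hmem
    exact c.hy1 hmem
  have hCX := (h18.2.2 (Subgroup.zpowers b₁) (Subgroup.zpowers_le.mpr hb₁B)
    (by rw [Nat.card_zpowers, hb₁q]) hXne).1
  have hfree : ∀ w ∈ sigmaCore N, b₁ * w = w * b₁ → w = 1 := by
    intro w hw hwb
    have hwM : w ∈ M := by
      apply hCX
      apply centralizer_singleton_le_centralizer_zpowers36
      rw [Subgroup.mem_centralizer_iff]
      intro v hv
      rw [Set.mem_singleton_iff.mp hv]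
      exact hwb
    have hmem : w ∈ sigmaCore N ⊓ M := Subgroup.mem_inf.mpr ⟨hw, hwM⟩
    rw [c.hNσM, Subgroup.mem_bot] at hmem
    exact hmem
  -- `q ∉ τ₂(N)`
  have hqτN : q ∉ tau2 N := by
    intro hqτ
    obtain ⟨A', hA'E, hA'ea, hA'c⟩ := Cfsg.Agent.Lib.Helper67.BG.exists_ea_sq_le_compl c.hD hqτ
    obtain ⟨A, hAE, hAea, hAc, hyA, -, hAn⟩ := c.exists_A h
    have h18N := h.h1418 N c.hN (M ⊓ N) c.hD q hqτ A' ⟨hA'E, hA'ea, hA'c⟩
    have hA'n : M ⊓ N ≤ Subgroup.normalizer (A' : Set G) := h18N.1.1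
    have hcomm : ∀ a ∈ A', a * y = y * a := by
      intro a ha
      have h1 : a * y * a⁻¹ ∈ A := (Subgroup.mem_normalizer_iff.mp (hAn (hA'E ha)) y).mp hyA
      have h2 : y * a⁻¹ * y⁻¹ ∈ A' :=
        (Subgroup.mem_normalizer_iff.mp (hA'n (hAE hyA)) _).mp (A'.inv_mem ha)
      have h3 : a * y * a⁻¹ * y⁻¹ ∈ A := A.mul_mem h1 (A.inv_mem hyA)
      have h4 : a * y * a⁻¹ * y⁻¹ ∈ A' := by
        have e : a * y * a⁻¹ * y⁻¹ = a * (y * a⁻¹ * y⁻¹) := by group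
        rw [e]; exact A'.mul_mem ha h2
      have h5 : a * y * a⁻¹ * y⁻¹ = 1 := by
        have o1 : orderOf (a * y * a⁻¹ * y⁻¹) ∣ r := orderOf_dvd_of_pow_eq_one (hAea.2 _ h3)
        have o2 : orderOf (a * y * a⁻¹ * y⁻¹) ∣ q := orderOf_dvd_of_pow_eq_one (hA'ea.2 _ h4)
        have o3 : orderOf (a * y * a⁻¹ * y⁻¹) ∣ Nat.gcd r q := Nat.dvd_gcd o1 o2
        have hc : Nat.gcd r q = 1 := (Nat.coprime_primes c.hr hqp).mpr hrq
        rw [hc] at o3
        exact orderOf_eq_one_iff.mp (Nat.dvd_one.mp o3)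
      exact commute_of_comm_eq_one36 h5
    have h17' := h.h1417 M c.hM q hq A' ⟨hA'E.trans inf_le_left, hA'ea, hA'c⟩
    have hmem : y ∈ sigmaCore M ⊓ Subgroup.centralizer (A' : Set G) :=
      Subgroup.mem_inf.mpr ⟨c.hy, Subgroup.mem_centralizer_iff.mpr (fun a ha => hcomm a ha)⟩
    rw [h17'.2.2.2.1, Subgroup.mem_bot] at hmem
    exact c.hy1 hmem
  have hq1N : PRankLE q 1 N := by
    by_contra hr1
    apply hqτN
    refine ⟨hqp, hqσN, ?_, hr1⟩
    by_contra hr2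
    exact hα hr2
  -- a nontrivial element `b₀` of `C_B(u)`
  obtain ⟨b₀, hb₀, hb₀1⟩ := exists_ne_one_of_ne_bot36 hcase2
  have hb₀B : b₀ ∈ B := (Subgroup.mem_inf.mp hb₀).1
  have hb₀u : u * b₀ = b₀ * u :=
    Subgroup.mem_centralizer_iff.mp (Subgroup.mem_inf.mp hb₀).2 u (Subgroup.mem_zpowers u)
  have hb₀q : orderOf b₀ = q := orderOf_eq_prime (hBea.2 b₀ hb₀B) hb₀1
  have hb₀N : g * b₀ * g⁻¹ ∈ N := hgc b₀ hb₀u.symm
  obtain ⟨n, hn, hnz⟩ := exists_conj_mem_zpowers_of_pRankLE_one36 hq1N hb₀N hb₁N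
    (by rw [Cfsg.Agent.Lib.Helper85.BG.orderOf_conj, hb₀q]) hb₁q
  obtain ⟨k, hk⟩ := Subgroup.mem_zpowers_iff.mp hnz
  have hc1 : Commute (g * b₀ * g⁻¹) (g * u * g⁻¹) :=
    Cfsg.Agent.Lib.Helper85.BG.conj_commute (show Commute b₀ u from hb₀u.symm) g
  have hc2 : Commute (n * b₁ * n⁻¹) (g * u * g⁻¹) := by
    rw [← hk]; exact hc1.zpow_left k
  have hc3 := Cfsg.Agent.Lib.Helper85.BG.conj_commute hc2 n⁻¹
  have e1 : n⁻¹ * (n * b₁ * n⁻¹) * n⁻¹⁻¹ = b₁ := by group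
  rw [e1] at hc3
  have hwσ : n⁻¹ * (g * u * g⁻¹) * n⁻¹⁻¹ ∈ sigmaCore N :=
    (Subgroup.mem_normalizer_iff.mp
      (Cfsg.Agent.Lib.Helper67.BG.sigmaCore_normalizer N (N.inv_mem hn)) _).mp hguσ
  have hw1 := hfree _ hwσ hc3.eq
  exact hu1 (conj_eq_one_iff.mp (conj_eq_one_iff.mp hw1))

/-- The reduction to the configuration `Cfg36`: replace `x` by a power `y` of prime order. -/
theorem exists_cfg36 (hG : IsMinSimpleOddOrder G)
    (h1350 : type_of% (@Cfsg.CfsgFrozen.S1350 G _ _ hG))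
    (h1375 : type_of% (@Cfsg.CfsgFrozen.S1375 G _ _ hG))
    (h1378 : type_of% (@Cfsg.CfsgFrozen.S1378 G _ _ hG))
    (h1409 : type_of% (@Cfsg.CfsgFrozen.S1409 G _ _ hG))
    (h1417 : type_of% (@Cfsg.CfsgFrozen.S1417 G _ _ hG))
    (h1418 : type_of% (@Cfsg.CfsgFrozen.S1418 G _ _ hG))
    (h1420 : type_of% (@Cfsg.CfsgFrozen.S1420 G _ _ hG))
    (h1424 : type_of% (@Cfsg.CfsgFrozen.S1424 G _ _ hG))
    (M : Subgroup G) (hM : IsCoatom M) (x : G) (hx : x ∈ sigmaCore M) (hx1 : x ≠ 1)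
    (hxM : ¬ Subgroup.centralizer ({x} : Set G) ≤ M)
    (N : Subgroup G) (hN : IsCoatom N) (hxN : Subgroup.centralizer ({x} : Set G) ≤ N) :
    ∃ (y : G) (r : ℕ), Cfg36 M N y r := by
  obtain ⟨r, k, hr, -, hrσM, hXcard, hXM⟩ :=
    Cfsg.Agent.Lib.Helper44.BG.exists_prime_zpowers hx hx1
  have hX1 : Subgroup.zpowers (x ^ k) ≠ ⊥ := by
    intro h
    rw [h, Subgroup.card_bot] at hXcard
    exact hr.one_lt.ne hXcard
  have hXtop : Subgroup.zpowers (x ^ k) ≠ ⊤ := fun h => hM.1 (top_le_iff.mp (h ▸ hXM))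
  have hCxy : Subgroup.centralizer ({x} : Set G) ≤ Subgroup.centralizer ({x ^ k} : Set G) := by
    intro c hc
    rw [Subgroup.mem_centralizer_iff] at hc ⊢
    intro w hw
    rw [Set.mem_singleton_iff.mp hw]
    exact ((show Commute x c from hc x rfl).pow_left k).eq
  have hCyX : Subgroup.centralizer ({x ^ k} : Set G) ≤
      Subgroup.normalizer ((Subgroup.zpowers (x ^ k) : Subgroup G) : Set G) :=
    (centralizer_singleton_le_centralizer_zpowers36 (x ^ k)).trans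
      (Cfsg.Agent.Lib.Helper35.BG.centralizer_le_normalizer' _)
  obtain ⟨N', hN', hN'X⟩ := exists_coatom_ge (normalizer_ne_top hG hX1 hXtop)
  obtain ⟨N₀, -, huniq, -⟩ := h1375 M hM x hx hx1 hxM
  have e1 : N = N₀ := huniq N hN hxN
  have e2 : N' = N₀ := huniq N' hN' ((hCxy.trans hCyX).trans hN'X)
  have e : N' = N := e2.trans e1.symm
  have hNX : Subgroup.normalizer ((Subgroup.zpowers (x ^ k) : Subgroup G) : Set G) ≤ N :=
    e ▸ hN'X
  have hNM : N ≠ M := fun h => hxM (h ▸ hxN)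
  obtain ⟨hnconj, hτ, hnil, hσNM, hcompl⟩ :=
    Cfsg.Agent.Lib.Helper44.BG.s1375_struct hG h1350 h1378 h1409 h1417 h1418 h1420 h1424 M hM
      r hr hrσM (Subgroup.zpowers (x ^ k)) hXcard hXM N hN hNX hNM
  refine ⟨x ^ k, r, ⟨hM, hN, hr, Subgroup.pow_mem _ hx k, ?_, fun hh => hxM (hCxy.trans hh),
    hCyX.trans hNX, hnconj, hτ, hnil, hσNM, hcompl⟩⟩
  rw [← Nat.card_zpowers]; exact hXcard

/-- **S1436(a)** (B&G 14.4(d) and its consequence), with the earlier statements as hypotheses: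
if some prime of `σ(N)` divides `|M|`, then `κ(M) = ∅` and `τ₂(M) = ∅`. -/
theorem s1436a (hG : IsMinSimpleOddOrder G)
    (h1350 : type_of% (@Cfsg.CfsgFrozen.S1350 G _ _ hG))
    (h1375 : type_of% (@Cfsg.CfsgFrozen.S1375 G _ _ hG))
    (h1378 : type_of% (@Cfsg.CfsgFrozen.S1378 G _ _ hG))
    (h1405 : type_of% (@Cfsg.CfsgFrozen.S1405 G _ _ hG))
    (h1408 : type_of% (@Cfsg.CfsgFrozen.S1408 G _ _ hG))
    (h1409 : type_of% (@Cfsg.CfsgFrozen.S1409 G _ _ hG))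
    (h1414 : type_of% (@Cfsg.CfsgFrozen.S1414 G _ _ hG))
    (h1417 : type_of% (@Cfsg.CfsgFrozen.S1417 G _ _ hG))
    (h1418 : type_of% (@Cfsg.CfsgFrozen.S1418 G _ _ hG))
    (h1420 : type_of% (@Cfsg.CfsgFrozen.S1420 G _ _ hG))
    (h1423 : type_of% (@Cfsg.CfsgFrozen.S1423 G _ _ hG))
    (h1424 : type_of% (@Cfsg.CfsgFrozen.S1424 G _ _ hG))
    (h1425 : type_of% (@Cfsg.CfsgFrozen.S1425 G _ _ hG))
    (h1429 : type_of% (@Cfsg.CfsgFrozen.S1429 G _ _ hG))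
    (h1430 : type_of% (@Cfsg.CfsgFrozen.S1430 G _ _ hG))
    (h1431 : type_of% (@Cfsg.CfsgFrozen.S1431 G _ _ hG))
    (M : Subgroup G) (hM : IsCoatom M) (x : G) (hx : x ∈ sigmaCore M) (hx1 : x ≠ 1)
    (hxM : ¬ Subgroup.centralizer ({x} : Set G) ≤ M)
    (N : Subgroup G) (hN : IsCoatom N) (hxN : Subgroup.centralizer ({x} : Set G) ≤ N) :
    (∃ p ∈ sigma N, p ∣ Nat.card M) → kappa M = ∅ ∧ tau2 M = ∅ := by
  rintro ⟨p, hpN, hpM⟩
  obtain ⟨y, r, c⟩ := exists_cfg36 hG h1350 h1375 h1378 h1409 h1417 h1418 h1420 h1424 M hM x hx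
    hx1 hxM N hN hxN
  have h : Hy36 hG :=
    ⟨h1350, h1378, h1405, h1408, h1414, h1417, h1418, h1423, h1425, h1429, h1430, h1431⟩
  exact ⟨c.kappa_eq_empty h hpN hpM, c.tau2_eq_empty h hpN hpM⟩

end Ctx

end Cfsg.Agent.Lib.Helper77.BG
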